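import Groth.Prelude.Def_Frob
import Groth.Agent.InvX.Tensor
import Groth.Agent.InvX.Pullback
import Groth.Agent.H23.PicMul

/-!
# The absolute Frobenius pulls an invertible module back to its `p`-th power
-/

set_option autoImplicit false
set_option backward.isDefEq.respectTransparency false
set_option backward.isDefEq.respectTransparency.types false
set_option linter.style.haveILetI false

universe u

open CategoryTheory AlgebraicGeometry TopologicalSpace Opposite

namespace Groth.Agent.PerfPic

open Groth.Agent.AModX Groth.Agent.InvX Groth.Agent.H23.PicMul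

variable {X : Scheme.{u}} {L : X.Modules}

/-- The tensor power of a section. -/
noncomputable def pw {U : X.Opens} (e : Γ(L, U)) : ∀ n : ℕ, Γ(CohB1.tensorPow L n, U)
  | 0 => (show Γ(Coh.structureModule X, U) from (1 : Γ(X, U)))
  | n + 1 => tmul (pw e n) e

theorem res_pw {U V : X.Opens} (h : V ≤ U) (e : Γ(L, U)) :
    ∀ n, res (CohB1.tensorPow L n) h (pw e n) = pw (res L h e) n
  | 0 => map_one (resR h)
  | n + 1 => by
    refine (res_tmul h (pw e n) e).trans ?_
    rw [res_pw h e n]
    rfl

theorem pw_smul {U : X.Opens} (g : Γ(X, U)) (e : Γ(L, U)) :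
    ∀ n, pw (g • e) n = g ^ n • pw e n
  | 0 => by rw [pow_zero, one_smul]; rfl
  | n + 1 => by
    show tmul (pw (g • e) n) (g • e) = g ^ (n + 1) • tmul (pw e n) e
    rw [pw_smul g e n, tmul_smul_left, tmul_smul_right, smul_smul, pow_succ]

theorem isFrame_pw {U : X.Opens} {e : Γ(L, U)} (he : IsFrame e) : ∀ n, IsFrame (pw e n)
  | 0 => isFrame_one U
  | n + 1 => isFrame_tmul (isFrame_pw he n) he

variable (p : ℕ) [Fact p.Prime] [FrobSch.IsCharP X p]

/-- A section pulled back along Frobenius, over the same open. -/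
noncomputable def fpull {U : X.Opens} (e : Γ(L, U)) :
    Γ((Scheme.Modules.pullback (FrobSch.frob X p)).obj L, U) :=
  pullElt (FrobSch.frob X p) e

theorem res_fpull {U V : X.Opens} (h : V ≤ U) (e : Γ(L, U)) :
    res ((Scheme.Modules.pullback (FrobSch.frob X p)).obj L) h (fpull p e) = fpull p (res L h e) :=
  (app_res ((Scheme.Modules.pullbackPushforwardAdjunction (FrobSch.frob X p)).unit.app L) h e).symm

theorem fpull_smul {U : X.Opens} (g : Γ(X, U)) (e : Γ(L, U)) :
    fpull p (g • e) = g ^ p • fpull p e :=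
  Scheme.Modules.Hom.app_smul
    ((Scheme.Modules.pullbackPushforwardAdjunction (FrobSch.frob X p)).unit.app L) g e

theorem isFrame_fpull {U : X.Opens} {e : Γ(L, U)} (he : IsFrame e) : IsFrame (fpull p e) :=
  isFrame_pullElt (FrobSch.frob X p) he

/-- The inverse image along Frobenius is the `p`-th tensor power. -/
theorem nonempty_frob_pullback_iso (hL : PicF.IsInvertible L) :
    Nonempty ((Scheme.Modules.pullback (FrobSch.frob X p)).obj L ≅ CohB1.tensorPow L p) := by
  choose U hxU e he using fun x : X => exists_frame hL x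
  have hcov : ∀ x : X, ∃ a, x ∈ U a := fun x => ⟨x, hxU x⟩
  have key : ∀ (a b : X) (W : X.Opens) (ha : W ≤ U a) (hb : W ≤ U b),
      ∃ k : Γ(X, W), res _ hb (fpull p (e b)) = k ^ p • res _ ha (fpull p (e a)) ∧
        res _ hb (pw (e b) p) = k ^ p • res _ ha (pw (e a) p) := fun a b W ha hb => by
    obtain ⟨k, hk⟩ := (he a).exists_coord ha (res L hb (e b))
    exact ⟨k, by rw [res_fpull, hk, fpull_smul, res_fpull], by rw [res_pw, hk, pw_smul, res_pw]⟩
  have h₁ : ∀ (a b : X) (W : X.Opens) (ha : W ≤ U a) (hb : W ≤ U b) (g : Γ(X, W)),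
      res _ hb (fpull p (e b)) = g • res _ ha (fpull p (e a)) →
        res _ hb (pw (e b) p) = g • res _ ha (pw (e a) p) := fun a b W ha hb g hg => by
    obtain ⟨k, h1, h2⟩ := key a b W ha hb
    rw [(isFrame_fpull p (he a)).coord_unique ha (hg.symm.trans h1)]
    exact h2
  have h₂ : ∀ (a b : X) (W : X.Opens) (ha : W ≤ U a) (hb : W ≤ U b) (g : Γ(X, W)),
      res _ hb (pw (e b) p) = g • res _ ha (pw (e a) p) →
        res _ hb (fpull p (e b)) = g • res _ ha (fpull p (e a)) := fun a b W ha hb g hg => by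
    obtain ⟨k, h1, h2⟩ := key a b W ha hb
    rw [(isFrame_pw (he a) p).coord_unique ha (hg.symm.trans h2)]
    exact h1
  refine ⟨⟨ofFrames hcov (fun a => isFrame_fpull p (he a)) h₁,
    ofFrames hcov (fun a => isFrame_pw (he a) p) h₂, ?_, ?_⟩⟩
  · refine hom_ext_of_frames U hcov _ (fun a => isFrame_fpull p (he a)) fun a => ?_
    show (ofFrames hcov (fun a => isFrame_pw (he a) p) h₂).app (U a)
      ((ofFrames hcov (fun a => isFrame_fpull p (he a)) h₁).app (U a) (fpull p (e a))) = fpull p (e a)
    rw [ofFrames_app, ofFrames_app]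
  · refine hom_ext_of_frames U hcov _ (fun a => isFrame_pw (he a) p) fun a => ?_
    show (ofFrames hcov (fun a => isFrame_fpull p (he a)) h₁).app (U a)
      ((ofFrames hcov (fun a => isFrame_pw (he a) p) h₂).app (U a) (pw (e a) p)) = pw (e a) p
    rw [ofFrames_app, ofFrames_app]

theorem pullCl_frob {c : PicF.Cl X} (hc : PicF.IsInvertibleCl c) :
    PicF.pullCl (FrobSch.frob X p) c = c ^ p := by
  obtain ⟨M, rfl, hM⟩ := hc
  rw [← cl_tensorPow]
  exact cl_eq_iff.2 (nonempty_frob_pullback_iso p hM)

end Groth.Agent.PerfPic
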