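import Groth.Agent.PerfPic.FrobPull
import Groth.Agent.H9Misc.PerfSchLib
import Groth.Agent.LimMod.Iso
import Groth.Agent.PicLim.Descend
import Groth.Agent.AmpleVan.Pull

/-!
# Line bundles on a perfection, through the Frobenius tower
-/

set_option autoImplicit false
set_option backward.isDefEq.respectTransparency false
set_option backward.isDefEq.respectTransparency.types false
set_option linter.style.haveILetI false
set_option linter.unusedSectionVars false

universe u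

open CategoryTheory CategoryTheory.Limits AlgebraicGeometry TopologicalSpace Opposite

namespace Groth.Agent.PerfPic

open Groth.Agent.H9Misc.PerfSchLib Groth.Agent.H23.PicMul Groth.Agent

variable (p : ℕ) [Fact p.Prime] {X XP : Scheme.{u}} [FrobSch.IsCharP X p]

/-- A perfection is a limit of the Frobenius tower, with the projection to stage zero equal to it. -/
theorem exists_limit_cone [FrobSch.IsCharP XP p] (π : XP ⟶ X) (h : FrobSch.IsPerfection π p) :
    ∃ (τ : (Functor.const (ULift.{u} ℕ)ᵒᵖ).obj XP ⟶ tower p X) (_ : IsLimit (Cone.mk XP τ)),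
      τ.app (op (ULift.up 0)) = π := by
  obtain ⟨c, hc, -⟩ := Groth.Agent.S2151.result (tower p X)
  let q : ∀ n : ℕ, c.pt ⟶ X := fun n => c.π.app (op (ULift.up n))
  have hq : ∀ n, q (n + 1) ≫ FrobSch.frob X p = q n := fun n => by
    have := c.w (homOfLE (show (ULift.up n : ULift.{u} ℕ) ≤ ULift.up (n + 1) from Nat.le_succ n)).op
    rwa [tower_succ] at this
  haveI : FrobSch.IsCharP c.pt p := FrobSch.IsCharP.of_hom (q 0) p
  have hext : ∀ {T : Scheme.{u}} {a b : T ⟶ c.pt}, (∀ n, a ≫ q n = b ≫ q n) → a = b :=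
    fun h => hc.hom_ext fun i => h i.unop.down
  have hq0 : FrobSch.IsPerfection (q 0) p := by
    refine ⟨?_, fun Y _ hY => ⟨fun a b e => hext fun n => ?_, fun g => ?_⟩⟩
    · let s : c.pt ⟶ c.pt := hc.lift (mkCone p X (fun n => q (n + 1)) fun n => hq (n + 1))
      have hs : ∀ n, s ≫ q n = q (n + 1) := fun n => hc.fac _ (op (ULift.up n))
      refine ⟨s, hext fun n => ?_, hext fun n => ?_⟩
      · rw [Category.assoc, hs, FrobSch.frob_comp, hq, Category.id_comp]
      · rw [Category.assoc, FrobSch.frob_comp, ← Category.assoc, hs, hq, Category.id_comp]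
    · induction n with
      | zero => exact e
      | succ n ih =>
        haveI : IsIso (FrobSch.frob Y p) := hY
        rw [← cancel_epi (FrobSch.frob Y p), FrobSch.frob_comp, FrobSch.frob_comp, Category.assoc,
          Category.assoc, hq, ih]
    · haveI : IsIso (FrobSch.frob Y p) := hY
      let gn : ℕ → (Y ⟶ X) := fun n => Nat.rec g (fun _ h => inv (FrobSch.frob Y p) ≫ h) n
      have hg : ∀ n, gn (n + 1) ≫ FrobSch.frob X p = gn n := fun n => by
        show (inv (FrobSch.frob Y p) ≫ gn n) ≫ _ = _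
        rw [Category.assoc, ← FrobSch.frob_comp, IsIso.inv_hom_id_assoc]
      exact ⟨hc.lift (mkCone p X gn hg), hc.fac _ (op (ULift.up 0))⟩
  obtain ⟨e, he⟩ := exists_iso p h hq0
  exact ⟨(c.extend e.hom).π, hc.extendIso e.hom, he⟩

lemma towerℕ_preimage {i j : ℕ} (h : i ≤ j) (V : X.Opens) :
    (towerℕ p X).map (homOfLE h).op ⁻¹ᵁ V = V := by
  induction h with
  | refl =>
    rw [show (homOfLE (le_refl i)).op = 𝟙 (op i) from rfl, CategoryTheory.Functor.map_id]
    rfl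
  | @step m h ih =>
    rw [show (homOfLE (Nat.le.step h)).op = (homOfLE (Nat.le_add_right m 1)).op ≫ (homOfLE h).op from rfl,
      Functor.map_comp]
    have h1 : FrobSch.frob X p ⁻¹ᵁ ((towerℕ p X).map (homOfLE h).op ⁻¹ᵁ V) = V :=
      (congrArg (FrobSch.frob X p ⁻¹ᵁ ·) ih).trans rfl
    rw [towerℕ_succ]
    exact h1

lemma pullCl_towerℕ {i j : ℕ} (h : i ≤ j) :
    ∃ d : ℕ, ∀ c : PicF.Cl X, PicF.IsInvertibleCl c →
      PicF.pullCl ((towerℕ p X).map (homOfLE h).op) c = c ^ (p ^ d) := by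
  induction h with
  | refl =>
    refine ⟨0, fun c _ => ?_⟩
    rw [show (homOfLE (le_refl i)).op = 𝟙 (op i) from rfl, CategoryTheory.Functor.map_id, pow_zero, pow_one]
    exact PicLoc.pullCl_id c
  | @step m h ih =>
    obtain ⟨d, hd⟩ := ih
    refine ⟨d + 1, fun c hc => ?_⟩
    rw [show (homOfLE (Nat.le.step h)).op = (homOfLE (Nat.le_add_right m 1)).op ≫ (homOfLE h).op from rfl,
      Functor.map_comp, towerℕ_succ]
    refine (PicClLib.pullCl_comp (FrobSch.frob X p) _ c).symm.trans ?_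
    refine (congrArg (PicF.pullCl _) (hd c hc)).trans ?_
    refine (pullCl_pow (FrobSch.frob X p) c _).trans ?_
    rw [pullCl_frob p hc, ← pow_mul, pow_succ, mul_comm]

lemma tower_preimage {i j : (ULift.{u} ℕ)ᵒᵖ} (φ : j ⟶ i) (V : X.Opens) : (tower p X).map φ ⁻¹ᵁ V = V :=
  have h' : i.unop ≤ j.unop := leOfHom φ.unop
  towerℕ_preimage p (i := i.unop.down) (j := j.unop.down) h' V

lemma pullCl_tower {i j : (ULift.{u} ℕ)ᵒᵖ} (φ : j ⟶ i) :
    ∃ d : ℕ, ∀ c : PicF.Cl X, PicF.IsInvertibleCl c → PicF.pullCl ((tower p X).map φ) c = c ^ (p ^ d) :=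
  have h' : i.unop ≤ j.unop := leOfHom φ.unop
  pullCl_towerℕ p (i := i.unop.down) (j := j.unop.down) h'

instance tower_compact [CompactSpace X] (i : (ULift.{u} ℕ)ᵒᵖ) : CompactSpace ((tower p X).obj i) :=
  (inferInstance : CompactSpace X)

instance tower_qs [QuasiSeparatedSpace X] (i : (ULift.{u} ℕ)ᵒᵖ) : QuasiSeparatedSpace ((tower p X).obj i) :=
  (inferInstance : QuasiSeparatedSpace X)

/-- On a perfect scheme an invertible class with trivial `p`-power is trivial. -/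
theorem eq_one_of_pow [FrobSch.IsCharP XP p] (hP : FrobSch.IsPerfect XP p) {c : PicF.Cl XP}
    (hc : PicF.IsInvertibleCl c) : ∀ n : ℕ, c ^ (p ^ n) = 1 → c = 1 := by
  haveI : IsIso (FrobSch.frob XP p) := hP
  have inj : ∀ d : PicF.Cl XP, PicF.pullCl (FrobSch.frob XP p) d = 1 → d = 1 := fun d h => by
    have h1 := congrArg (PicF.pullCl (inv (FrobSch.frob XP p))) h
    rw [PicClLib.pullCl_comp, IsIso.inv_hom_id, pullCl_one, PicLoc.pullCl_id] at h1
    exact h1
  intro n
  induction n with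
  | zero => intro h; rwa [pow_zero, pow_one] at h
  | succ n ih =>
    intro h
    refine ih (inj _ ?_)
    rw [pullCl_pow, pullCl_frob p hc, ← pow_mul, mul_comm, ← pow_succ]
    exact h

section

variable [FrobSch.IsCharP XP p] [CompactSpace X] [QuasiSeparatedSpace X] (π : XP ⟶ X)
  (h : FrobSch.IsPerfection π p)

include h in
theorem isTrivial_pull_iff {L : X.Modules} (hL : PicF.IsInvertible L) :
    PicF.pullCl π (PicF.cl L) = 1 ↔ ∃ n : ℕ, PicF.cl L ^ (p ^ n) = 1 := by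
  constructor
  · intro h1
    obtain ⟨τ, hc, h0⟩ := exists_limit_cone p π h
    rw [← pullCl_one π, ← h0] at h1
    obtain ⟨e⟩ := cl_eq_iff.1 h1
    obtain ⟨j, φ, ⟨v⟩⟩ := LimMod.exists_iso_stage (tower p X) (Cone.mk XP τ) hc (i := op (ULift.up 0))
      (F := L) (G := Coh.structureModule X) (PicLim.isFP_of_isInvertible hL)
      (PicLim.isFP_of_isInvertible InvX.isInvertible_structureModule) e
    obtain ⟨d, hd⟩ := pullCl_tower (X := X) p φ
    refine ⟨d, (hd _ ⟨L, rfl, hL⟩).symm.trans ?_⟩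
    exact (cl_eq_iff.2 ⟨v⟩).trans (pullCl_one _)
  · rintro ⟨n, hn⟩
    refine eq_one_of_pow p h.1 ⟨_, rfl, PicClLib.isInvertible_pullback π hL⟩ n ?_
    exact ((pullCl_pow π (PicF.cl L) _).symm.trans ((congrArg _ hn).trans (pullCl_one π)))

include h in
theorem exists_pow_descend {M : XP.Modules} (hM : PicF.IsInvertible M) :
    ∃ (n : ℕ) (L : X.Modules), PicF.IsInvertible L ∧ PicF.cl M ^ (p ^ n) = PicF.pullCl π (PicF.cl L) := by
  obtain ⟨τ, hc, h0⟩ := exists_limit_cone p π h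
  obtain ⟨j, φ, L, hL, ⟨θ⟩⟩ := PicLim.exists_invertible_descend (tower p X) (Cone.mk XP τ) hc
    (op (ULift.up 0)) M hM
  obtain ⟨d, hd⟩ := pullCl_tower (X := X) p φ
  refine ⟨d, L, hL, ?_⟩
  have h1 : PicF.pullCl π (PicF.cl L) =
      PicF.pullCl (τ.app j) (PicF.pullCl ((tower p X).map φ) (PicF.cl L)) := by
    rw [← h0]
    refine Eq.trans ?_ (PicClLib.pullCl_comp (τ.app j) ((tower p X).map φ) (PicF.cl L)).symm
    exact congrArg (fun g => PicF.pullCl g (PicF.cl L)) ((Cone.mk XP τ).w φ).symm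
  refine Eq.symm (h1.trans ?_)
  refine (congrArg _ (hd _ ⟨L, rfl, hL⟩)).trans ((pullCl_pow (τ.app j) (PicF.cl L) _).trans ?_)
  exact congrArg (· ^ (p ^ d)) (cl_eq_iff.2 ⟨θ⟩)

include h in
theorem isEmbedding : Topology.IsEmbedding π.base := by
  obtain ⟨τ, hc, h0⟩ := exists_limit_cone p π h
  haveI := universallyInjective p π h
  refine ⟨⟨le_antisymm π.continuous.le_induced ?_⟩, π.injective⟩
  intro U hU
  have hb := isBasis_preimage_isAffineOpen (tower p X) (Cone.mk XP τ) hc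
  obtain ⟨S, hS, hUS⟩ := Opens.isBasis_iff_cover.1 hb ⟨U, hU⟩
  have : ∀ W ∈ S, ∃ V : X.Opens, π ⁻¹ᵁ V = W := fun W hW => by
    obtain ⟨i, V, -, rfl⟩ := hS hW
    refine ⟨V, ?_⟩
    let φ : i ⟶ op (ULift.up 0) := (homOfLE (show (ULift.up 0 : ULift.{u} ℕ) ≤ i.unop from Nat.zero_le _)).op
    rw [← h0, ← (Cone.mk XP τ).w φ]
    show (Cone.mk XP τ).π.app i ⁻¹ᵁ ((tower p X).map φ ⁻¹ᵁ V) = _
    rw [tower_preimage]
  choose V hV using this
  refine isOpen_induced_iff.2 ⟨((⨆ W : S, V W.1 W.2 : X.Opens) : Set X), Opens.is_open' _, ?_⟩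
  have h2 : π ⁻¹ᵁ (⨆ W : S, V W.1 W.2) = ⟨U, hU⟩ := by
    rw [Scheme.Hom.preimage_iSup]
    simp only [hV]
    rw [hUS, sSup_eq_iSup']
  exact congrArg (fun O : XP.Opens => (O : Set XP)) h2

include h in
theorem isAmple_iff {L : X.Modules} (hL : PicF.IsInvertible L) :
    CohB1.IsAmple L ↔ CohB1.IsAmple ((Scheme.Modules.pullback π).obj L) := by
  haveI := H9Misc.PerfSchLib.surjective p π h
  haveI := H9Misc.PerfSchLib.isAffineHom p h
  haveI : CompactSpace XP := QuasiCompact.compactSpace_of_compactSpace π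
  refine ⟨fun hA => AmpleVan.isAmple_pullback_of_isEmbedding π (isEmbedding p π h) hA, fun hA => ?_⟩
  obtain ⟨τ, hc, h0⟩ := exists_limit_cone p π h
  obtain ⟨-, -, hpts⟩ := AmpleX.isAmple_iff.1 hA
  refine AmpleX.isAmple_iff.2 ⟨hL, inferInstance, fun x => ?_⟩
  obtain ⟨z, rfl⟩ := π.surjective x
  obtain ⟨m, hm, s, hz, haff⟩ := hpts z
  have hP := InvX.isInvertible_tensorPow hL m
  have hc1 : PicF.cl (CohB1.tensorPow ((Scheme.Modules.pullback π).obj L) m) =
      PicF.cl ((Scheme.Modules.pullback (τ.app (op (ULift.up 0)))).obj (CohB1.tensorPow L m)) := by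
    rw [h0, cl_tensorPow]
    show PicF.pullCl π (PicF.cl L) ^ m = PicF.pullCl π (PicF.cl (CohB1.tensorPow L m))
    rw [cl_tensorPow, pullCl_pow]
  obtain ⟨eG⟩ := cl_eq_iff.1 hc1
  obtain ⟨e0⟩ := PicClLib.nonempty_pullback_structureModule (τ.app (op (ULift.up 0)))
  obtain ⟨j, φ, v, hv⟩ := LimMod.exists_trLimHom_eq (tower p X) (Cone.mk XP τ) (i := op (ULift.up 0)) hc
    (F := Coh.structureModule X) (G := CohB1.tensorPow L m)
    (PicLim.isFP_of_isInvertible InvX.isInvertible_structureModule)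
    (ProjUPX.isQCoh_of_isInvertible hP) (e0.hom ≫ s ≫ eG.hom)
  obtain ⟨eφ⟩ := PicClLib.nonempty_pullback_structureModule ((tower p X).map φ)
  let w : Coh.structureModule ((tower p X).obj j) ⟶
      (Scheme.Modules.pullback ((tower p X).map φ)).obj (CohB1.tensorPow L m) := eφ.inv ≫ v
  let tI := LimMod.trIso (τ.app j) ((tower p X).map φ) (τ.app (op (ULift.up 0))) ((Cone.mk XP τ).w φ)
  let E : Coh.structureModule XP ≅
      (Scheme.Modules.pullback (τ.app j)).obj (Coh.structureModule ((tower p X).obj j)) :=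
    e0.symm ≪≫ (tI.app _).symm ≪≫ (Scheme.Modules.pullback (τ.app j)).mapIso eφ
  have hs : s ≫ eG.hom = (E.hom ≫ (Scheme.Modules.pullback (τ.app j)).map w) ≫ (tI.app _).hom := by
    rw [← cancel_epi e0.hom, ← hv]
    simp only [E, w, Iso.trans_hom, Iso.symm_hom, Functor.mapIso_hom, Category.assoc]
    rw [Iso.hom_inv_id_assoc, ← Category.assoc ((Scheme.Modules.pullback (τ.app j)).map eφ.hom),
      ← Functor.map_comp, Iso.hom_inv_id_assoc]
    rfl
  have hloc : τ.app j ⁻¹ᵁ CohB1.genLocus _ w = CohB1.genLocus _ s := by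
    rw [← InvX.genLocus_comp_iso s eG, hs, InvX.genLocus_comp_iso]
    exact (InvX.genLocus_pullback (τ.app j) (PicClLib.isInvertible_pullback _ hP) w E).symm
  have hπ : ∀ V : X.Opens, π ⁻¹ᵁ V = τ.app j ⁻¹ᵁ V := fun V => by
    rw [← h0, ← (Cone.mk XP τ).w φ]
    show τ.app j ⁻¹ᵁ ((tower p X).map φ ⁻¹ᵁ V) = _
    rw [tower_preimage]
  obtain ⟨i', V, hV, hVs⟩ := exists_isAffineOpen_preimage_eq (tower p X) (Cone.mk XP τ) hc _
    (show IsAffineOpen (CohB1.genLocus _ s) from haff)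
  have hπ' : π ⁻¹ᵁ V = (Cone.mk XP τ).π.app i' ⁻¹ᵁ V := by
    let ψ : i' ⟶ op (ULift.up 0) := (homOfLE (show (ULift.up 0 : ULift.{u} ℕ) ≤ i'.unop from Nat.zero_le _)).op
    rw [← h0, ← (Cone.mk XP τ).w ψ]
    show _ ⁻¹ᵁ ((tower p X).map ψ ⁻¹ᵁ V) = _
    rw [tower_preimage]
  have hWV : (CohB1.genLocus _ w : X.Opens) = V := by
    refine Opens.ext (Set.preimage_injective.2 π.surjective ?_)
    have h1 : π ⁻¹ᵁ (CohB1.genLocus _ w : X.Opens) = π ⁻¹ᵁ V :=
      ((hπ _).trans hloc).trans (hπ'.trans hVs).symm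
    exact congrArg (fun O : XP.Opens => (O : Set XP)) h1
  obtain ⟨d, hd⟩ := pullCl_tower (X := X) p φ
  obtain ⟨t, ht⟩ := AmpleX.exists_section_of_cl_eq (B := CohB1.tensorPow L (m * p ^ d))
    (show PicF.cl ((Scheme.Modules.pullback ((tower p X).map φ)).obj (CohB1.tensorPow L m)) = _ from by
      refine (hd _ ⟨_, rfl, hP⟩).trans ?_
      rw [cl_tensorPow, cl_tensorPow]
      exact (pow_mul _ m _).symm) w
  refine ⟨m * p ^ d, Nat.mul_pos hm (pow_pos (Fact.out : p.Prime).pos _), t, ?_⟩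
  rw [ht, hWV]
  refine ⟨?_, hV⟩
  show z ∈ π ⁻¹ᵁ V
  rw [hπ', hVs]
  exact hz

end

end Groth.Agent.PerfPic
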