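import Groth.Prelude.Def_Frob
import Groth.Agent.FrobSmoothLib.Global
import Mathlib

/-!
# The relative Frobenius of a smooth morphism is flat
-/

set_option autoImplicit false
set_option backward.isDefEq.respectTransparency false
set_option backward.isDefEq.respectTransparency.types false
set_option linter.style.haveILetI false

universe u

open CategoryTheory CategoryTheory.Limits AlgebraicGeometry Opposite TensorProduct

namespace Groth.Agent.PerfPic

variable (p : ℕ) [Fact p.Prime]

theorem frob_Spec (R : Type u) [CommRing R] [CharP R p] :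
    FrobSch.frob (Spec (CommRingCat.of R)) p = Spec.map (CommRingCat.ofHom (frobenius R p)) := by
  refine ext_of_isAffine ?_
  ext x
  rw [FrobSch.frob_appTop]
  apply (Scheme.ΓSpecIso (CommRingCat.of R)).commRingCatIsoToRingEquiv.injective
  rw [map_pow]
  exact (ConcreteCategory.congr_hom (Scheme.ΓSpecIso_naturality (CommRingCat.ofHom (frobenius R p))) x).symm

theorem charP_of_natCast_eq_zero (R : Type u) [CommRing R] [Nontrivial R] (h : (p : R) = 0) : CharP R p :=
  (CharP.charP_iff_prime_eq_zero Fact.out).2 h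

/-- The affine case. -/
theorem flat_relFrob_Spec (A B : Type u) [CommRing A] [CommRing B] [CharP A p] [CharP B p] [Algebra A B]
    [Algebra.Smooth A B] [FrobSch.IsCharP (Spec (CommRingCat.of A)) p] :
    Flat (FrobSch.relFrob (Spec.map (CommRingCat.ofHom (algebraMap A B))) p) := by
  let g := Spec.map (CommRingCat.ofHom (algebraMap A B))
  haveI : FrobSch.IsCharP (Spec (CommRingCat.of B)) p := FrobSch.IsCharP.of_hom g p
  let e := pullbackSpecIso A B (FrobAlg.Twist p A)
  let iL : Spec (CommRingCat.of (B ⊗[A] FrobAlg.Twist p A)) ⟶ Spec (CommRingCat.of B) :=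
    Spec.map (CommRingCat.ofHom Algebra.TensorProduct.includeLeftRingHom)
  let iR : Spec (CommRingCat.of (B ⊗[A] FrobAlg.Twist p A)) ⟶ Spec (CommRingCat.of A) :=
    Spec.map (CommRingCat.ofHom (R := FrobAlg.Twist p A) (S := B ⊗[A] FrobAlg.Twist p A)
      (Algebra.TensorProduct.includeRight (R := A) (A := B) (B := FrobAlg.Twist p A)).toRingHom)
  have H : IsPullback iL iR g (FrobSch.frob (Spec (CommRingCat.of A)) p) := by
    rw [show FrobSch.frob (Spec (CommRingCat.of A)) p =
      Spec.map (CommRingCat.ofHom (algebraMap A (FrobAlg.Twist p A))) from frob_Spec p A]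
    refine IsPullback.of_iso_pullback ⟨?_⟩ e.symm (pullbackSpecIso_inv_fst ..) (pullbackSpecIso_inv_snd ..)
    rw [show iL = e.inv ≫ pullback.fst _ _ from (pullbackSpecIso_inv_fst ..).symm,
      show iR = e.inv ≫ pullback.snd _ _ from (pullbackSpecIso_inv_snd ..).symm, Category.assoc, Category.assoc]
    exact congrArg (e.inv ≫ ·) pullback.condition
  let c := H.isoPullback
  have hc : Spec.map (CommRingCat.ofHom (FrobAlg.relFrob p A B)) ≫ c.hom = FrobSch.relFrob g p := by
    refine pullback.hom_ext ?_ ?_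
    · rw [Category.assoc, H.isoPullback_hom_fst, FrobSch.relFrob_fst, frob_Spec, ← Spec.map_comp,
        ← CommRingCat.ofHom_comp]
      congr 2
      ext b
      show FrobAlg.relFrob p A B (b ⊗ₜ 1) = b ^ p
      rw [FrobSmoothLib.relFrob_tmul']
      exact (congrArg (b ^ p * ·) (map_one (algebraMap A B))).trans (mul_one _)
    · rw [Category.assoc, H.isoPullback_hom_snd, FrobSch.relFrob_snd]
      refine (Spec.map_comp _ _).symm.trans (congrArg Spec.map ?_)
      ext a
      show FrobAlg.relFrob p A B (1 ⊗ₜ a) = algebraMap A B a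
      rw [FrobSmoothLib.relFrob_tmul', one_pow, one_mul]
      rfl
  haveI : Flat (Spec.map (CommRingCat.ofHom (FrobAlg.relFrob p A B))) :=
    (HasRingHomProperty.Spec_iff (P := @Flat)).2 FrobSmoothLib.flat_relFrob_any
  rw [← hc]
  infer_instance

/-- Flatness passes to a smaller chart. -/
theorem flat_comp_relFrob {X' S' X S : Scheme.{u}} [FrobSch.IsCharP S p] [FrobSch.IsCharP S' p]
    (f : X ⟶ S) (g : X' ⟶ S') (a : X' ⟶ X) (b : S' ⟶ S) [IsOpenImmersion a] [IsOpenImmersion b]
    (w : g ≫ b = a ≫ f) (h : Flat (FrobSch.relFrob g p)) : Flat (a ≫ FrobSch.relFrob f p) := by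
  haveI : FrobSch.IsCharP X p := FrobSch.IsCharP.of_hom f p
  haveI : FrobSch.IsCharP X' p := FrobSch.IsCharP.of_hom g p
  let j : FrobSch.frobTwist g p ⟶ FrobSch.frobTwist f p :=
    pullback.map g (FrobSch.frob S' p) f (FrobSch.frob S p) a b b w (FrobSch.frob_comp p b)
  have hj : FrobSch.relFrob g p ≫ j = a ≫ FrobSch.relFrob f p := by
    refine pullback.hom_ext ?_ ?_
    · simp only [j, Category.assoc, pullback.lift_fst, FrobSch.relFrob_fst, FrobSch.relFrob_fst_assoc]
      exact FrobSch.frob_comp p a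
    · simp only [j, Category.assoc, pullback.lift_snd, FrobSch.relFrob_snd, FrobSch.relFrob_snd_assoc]
      exact w
  haveI := h
  rw [← hj]
  infer_instance

theorem flat_relFrob {X S : Scheme.{u}} [FrobSch.IsCharP S p] (f : X ⟶ S) [Smooth f] :
    Flat (FrobSch.relFrob f p) := by
  have hU : ∀ x : X, ∃ (W : X.Opens), x ∈ W ∧ Flat (W.ι ≫ FrobSch.relFrob f p) := fun x => by
    obtain ⟨_, ⟨V, hV, rfl⟩, hxV, -⟩ :=
      S.isBasis_affineOpens.exists_subset_of_mem_open (Set.mem_univ (f x)) isOpen_univ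
    obtain ⟨_, ⟨U, hU, rfl⟩, hxU, hUV⟩ :=
      X.isBasis_affineOpens.exists_subset_of_mem_open (show x ∈ f ⁻¹ᵁ V from hxV) (f ⁻¹ᵁ V).2
    refine ⟨U, hxU, ?_⟩
    haveI : Nonempty U := ⟨⟨x, hxU⟩⟩
    haveI : Nonempty V := ⟨⟨f x, hxV⟩⟩
    haveI : FrobSch.IsCharP X p := FrobSch.IsCharP.of_hom f p
    haveI : CharP Γ(X, U) p := charP_of_natCast_eq_zero p _ (FrobSch.natCast_eq_zero_app X p U)
    haveI : CharP Γ(S, V) p := charP_of_natCast_eq_zero p _ (FrobSch.natCast_eq_zero_app S p V)
    letI := (f.appLE V U hUV).hom.toAlgebra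
    haveI : Algebra.Smooth Γ(S, V) Γ(X, U) := f.smooth_appLE hV hU hUV
    haveI : FrobSch.IsCharP (Spec Γ(S, V)) p := FrobSch.IsCharP.of_hom hV.fromSpec p
    have h : Flat (hU.fromSpec ≫ FrobSch.relFrob f p) :=
      flat_comp_relFrob p f (Spec.map (f.appLE V U hUV)) hU.fromSpec hV.fromSpec
        (hV.SpecMap_appLE_fromSpec f hU hUV) (flat_relFrob_Spec p Γ(S, V) Γ(X, U))
    rw [← hU.toSpecΓ_fromSpec, Category.assoc]
    haveI : IsAffine U := hU
    haveI := h
    haveI : IsIso (Scheme.Opens.toSpecΓ U) := by rw [← hU.isoSpec_hom]; infer_instance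
    infer_instance
  choose W hxW hW using hU
  exact IsZariskiLocalAtSource.of_openCover (X.openCoverOfIsOpenCover W
    (TopologicalSpace.IsOpenCover.mk (top_le_iff.1 fun x _ => TopologicalSpace.Opens.mem_iSup.2 ⟨x, hxW x⟩))) hW

end Groth.Agent.PerfPic
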