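import Groth.Agent.PerfPic.FrobPull
import Groth.Prelude.Def_Coh

/-!
# Semilinear maps of abelian sheaves given on frames, and the splitting on twists
-/

set_option autoImplicit false
set_option backward.isDefEq.respectTransparency false
set_option backward.isDefEq.respectTransparency.types false
set_option linter.style.haveILetI false

universe u

open CategoryTheory AlgebraicGeometry TopologicalSpace Opposite

namespace Groth.Agent.PerfPic

open Groth.Agent.AModX Groth.Agent.InvX

variable {X : Scheme.{u}}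

/-- Data for a map given on coordinates with respect to frames. -/
structure SemiData (M N : X.Modules) where
  ι : Type u
  U : ι → X.Opens
  hcov : ∀ x, ∃ a, x ∈ U a
  e : ∀ a, Γ(M, U a)
  he : ∀ a, IsFrame (e a)
  n : ∀ a, Γ(N, U a)
  σ : ∀ W : X.Opens, Γ(X, W) →+ Γ(X, W)
  hσ : ∀ {V W : X.Opens} (h : W ≤ V) (g : Γ(X, V)), resR h (σ V g) = σ W (resR h g)
  hc : ∀ (a b : ι) (W : X.Opens) (ha : W ≤ U a) (hb : W ≤ U b) (g g' : Γ(X, W)),
    g • res M ha (e a) = g' • res M hb (e b) → σ W g • res N ha (n a) = σ W g' • res N hb (n b)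

namespace SemiData

variable {M N : X.Modules} (D : SemiData M N)

/-- `t` is the value at `x`. -/
def Val {V : X.Opens} (x : Γ(M, V)) (t : Γ(N, V)) : Prop :=
  ∀ (a : D.ι) (W : X.Opens) (h : W ≤ V) (h' : W ≤ D.U a) (g : Γ(X, W)),
    res M h x = g • res M h' (D.e a) → res N h t = D.σ W g • res N h' (D.n a)

lemma val_unique {V : X.Opens} {x : Γ(M, V)} {t t' : Γ(N, V)} (ht : D.Val x t) (ht' : D.Val x t') :
    t = t' := by
  refine eq_of_locally _ _ fun q hq => ?_
  obtain ⟨a, ha⟩ := D.hcov q
  obtain ⟨g, hg⟩ := (D.he a).exists_coord inf_le_right (res M (inf_le_left : V ⊓ D.U a ≤ V) x)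
  exact ⟨V ⊓ D.U a, inf_le_left, ⟨hq, ha⟩,
    (ht a _ inf_le_left inf_le_right g hg).trans (ht' a _ inf_le_left inf_le_right g hg).symm⟩

lemma val_res {V V' : X.Opens} (i : V' ≤ V) {x : Γ(M, V)} {t : Γ(N, V)} (ht : D.Val x t) :
    D.Val (res M i x) (res N i t) := fun a W h h' g hg => by
  rw [res_res] at hg ⊢
  exact ht a W _ h' g hg

lemma val_add {V : X.Opens} {x y : Γ(M, V)} {t s : Γ(N, V)} (ht : D.Val x t) (hs : D.Val y s) :
    D.Val (x + y) (t + s) := fun a W h h' g hg => by
  obtain ⟨g1, h1⟩ := (D.he a).exists_coord h' (res M h x)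
  obtain ⟨g2, h2⟩ := (D.he a).exists_coord h' (res M h y)
  have : g = g1 + g2 := (D.he a).coord_unique h' (by rw [← hg, map_add, h1, h2, add_smul])
  rw [map_add, ht a W h h' g1 h1, hs a W h h' g2 h2, this, map_add, add_smul]

lemma exists_val {V : X.Opens} (x : Γ(M, V)) : ∃ t : Γ(N, V), D.Val x t := by
  have hg := fun a => (D.he a).exists_coord inf_le_right (res M (inf_le_left : V ⊓ D.U a ≤ V) x)
  choose g hg using hg
  obtain ⟨t, ht, -⟩ := existsUnique_glue (M := N) (V := V) (fun a => V ⊓ D.U a) (fun _ => inf_le_left)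
    (fun q hq => (D.hcov q).imp fun a ha => ⟨hq, ha⟩)
    (fun a => D.σ _ (g a) • res N inf_le_right (D.n a))
    fun a b => by
      let W := (V ⊓ D.U a) ⊓ (V ⊓ D.U b)
      rw [res_smul, res_smul, res_res, res_res, D.hσ, D.hσ]
      refine D.hc a b W _ _ _ _ ?_
      have h1 := congrArg (res M (inf_le_left : W ≤ V ⊓ D.U a)) (hg a)
      have h2 := congrArg (res M (inf_le_right : W ≤ V ⊓ D.U b)) (hg b)
      rw [res_smul, res_res, res_res] at h1 h2
      exact h1.symm.trans h2
  refine ⟨t, fun a W h h' k hk => ?_⟩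
  have hW : W ≤ V ⊓ D.U a := le_inf h h'
  have h1 : k = resR hW (g a) := (D.he a).coord_unique h' (by
    rw [← hk]
    have := congrArg (res M hW) (hg a)
    rw [res_smul, res_res, res_res] at this
    exact this)
  have h2 := congrArg (res N hW) (ht a)
  rw [res_smul, res_res, res_res, D.hσ, ← h1] at h2
  exact h2

/-- The value. -/
noncomputable def val {V : X.Opens} (x : Γ(M, V)) : Γ(N, V) := (D.exists_val x).choose

lemma val_spec {V : X.Opens} (x : Γ(M, V)) : D.Val x (D.val x) := (D.exists_val x).choose_spec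

/-- The map of abelian sheaves. -/
noncomputable def hom : Coh.toAb M ⟶ Coh.toAb N :=
  ⟨{ app := fun V => AddCommGrpCat.ofHom (AddMonoidHom.mk' (fun x : Γ(M, V.unop) => D.val x)
      fun x y => D.val_unique (D.val_spec _) (D.val_add (D.val_spec x) (D.val_spec y)))
     naturality := fun V W i => by
      ext x
      exact D.val_unique (D.val_spec (res M i.unop.le x)) (D.val_res i.unop.le (D.val_spec x)) }⟩

lemma hom_app {V : X.Opens} (x : Γ(M, V)) : D.hom.hom.app (op V) x = D.val x := rfl

end SemiData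

section Split

variable (p : ℕ) [Fact p.Prime] [FrobSch.IsCharP X p] {L : X.Modules}

/-- The p-th power map to the p-th twist. -/
noncomputable def powData (hL : PicF.IsInvertible L) : SemiData L (CohB1.tensorPow L p) where
  ι := X
  U x := (exists_frame hL x).choose
  hcov x := ⟨x, (exists_frame hL x).choose_spec.choose⟩
  e x := (exists_frame hL x).choose_spec.choose_spec.choose
  he x := (exists_frame hL x).choose_spec.choose_spec.choose_spec
  n x := pw (exists_frame hL x).choose_spec.choose_spec.choose p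
  σ W := AddMonoidHom.mk' (fun g => g ^ p) fun g g' =>
    map_add (FrobSch.frobSh X p |>.hom.c.app (op W)).hom g g'
  hσ h g := map_pow (resR h) g p
  hc a b W ha hb g g' h := by
    show g ^ p • res _ ha (pw _ p) = g' ^ p • res _ hb (pw _ p)
    rw [res_pw, res_pw, ← pw_smul, ← pw_smul, h]

/-- The splitting on the p-th twist, from a Frobenius splitting of the structure sheaf. -/
noncomputable def splitData (hL : PicF.IsInvertible L)
    (s : Coh.toAb (Coh.structureModule X) ⟶ Coh.toAb (Coh.structureModule X))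
    (hlin : ∀ (U : X.Opens) (a b : Γ(X, U)),
      s.hom.app (op U) (a ^ p * b) = a * @id Γ(X, U) (s.hom.app (op U) b)) :
    SemiData (CohB1.tensorPow L p) L where
  ι := X
  U x := (exists_frame hL x).choose
  hcov x := ⟨x, (exists_frame hL x).choose_spec.choose⟩
  e x := pw (exists_frame hL x).choose_spec.choose_spec.choose p
  he x := isFrame_pw (exists_frame hL x).choose_spec.choose_spec.choose_spec p
  n x := (exists_frame hL x).choose_spec.choose_spec.choose
  σ W := AddMonoidHom.mk' (fun g : Γ(X, W) => @id Γ(X, W) (s.hom.app (op W) g))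
    fun g g' => map_add (s.hom.app (op W)).hom g g'
  hσ {V W} h g := (ConcreteCategory.congr_hom (s.hom.naturality (homOfLE h).op) g).symm
  hc a b W ha hb g g' h := by
    have he := (exists_frame hL a).choose_spec.choose_spec.choose_spec
    obtain ⟨k, hk⟩ := he.exists_coord ha (res L hb (exists_frame hL b).choose_spec.choose_spec.choose)
    rw [res_pw, res_pw, hk, pw_smul, smul_smul, mul_comm] at h
    have hg : g = k ^ p * g' := ((isFrame_pw he p).coord_unique ha (by rw [res_pw]; exact h))
    show @id Γ(X, W) (s.hom.app (op W) g) • res L ha _ = @id Γ(X, W) (s.hom.app (op W) g') • res L hb _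
    rw [hk, smul_smul, hg, hlin, mul_comm]
    rfl

theorem pow_split (hL : PicF.IsInvertible L)
    (φ s : Coh.toAb (Coh.structureModule X) ⟶ Coh.toAb (Coh.structureModule X))
    (hφ : ∀ (U : X.Opens) (t : Γ(X, U)), φ.hom.app (op U) t = t ^ p) (hs : φ ≫ s = 𝟙 _)
    (hlin : ∀ (U : X.Opens) (a b : Γ(X, U)),
      s.hom.app (op U) (a ^ p * b) = a * @id Γ(X, U) (s.hom.app (op U) b)) :
    (powData p hL).hom ≫ (splitData p hL s hlin).hom = 𝟙 _ := by
  ext V x
  obtain ⟨V⟩ := V
  show (splitData p hL s hlin).val ((powData p hL).val x) = x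
  refine eq_of_locally _ _ fun q hq => ?_
  let U := (exists_frame hL q).choose
  let W := V ⊓ U
  obtain ⟨g, hg⟩ := (exists_frame hL q).choose_spec.choose_spec.choose_spec.exists_coord
    (inf_le_right : W ≤ U) (res L (inf_le_left : W ≤ V) x)
  have h1 := (powData p hL).val_spec x q W inf_le_left inf_le_right g hg
  have h2 := (splitData p hL s hlin).val_spec _ q W inf_le_left inf_le_right (g ^ p) h1
  refine ⟨W, inf_le_left, ⟨hq, (exists_frame hL q).choose_spec.choose⟩, h2.trans (Eq.trans ?_ hg.symm)⟩
  have h3 : @id Γ(X, W) (s.hom.app (op W) (g ^ p)) = g := by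
    rw [← hφ W g]
    exact congrArg (fun f : Coh.toAb (Coh.structureModule X) ⟶ Coh.toAb (Coh.structureModule X) =>
      (show Γ(X, W) from f.hom.app (op W) g)) hs
  show @id Γ(X, W) (s.hom.app (op W) (g ^ p)) • _ = _
  rw [h3]
  rfl

theorem pow_semilinear (hL : PicF.IsInvertible L) (r : Coh.Γtop X) :
    Coh.smulAb L r ≫ (powData p hL).hom = (powData p hL).hom ≫ Coh.smulAb (CohB1.tensorPow L p) (r ^ p) := by
  ext V x
  obtain ⟨V⟩ := V
  refine (powData p hL).val_unique ((powData p hL).val_spec _) ?_
  intro a W h h' g hg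
  let rV : Γ(X, V) := Coh.resTop X (op V) r
  obtain ⟨g', hg'⟩ := ((powData p hL).he a).exists_coord h' (res L h x)
  have hgg : g = resR h rV * g' := ((powData p hL).he a).coord_unique h' (by
    rw [← hg, mul_smul, ← hg', ← res_smul]
    rfl)
  show res (CohB1.tensorPow L p) h ((show Γ(X, V) from Coh.resTop X (op V) (r ^ p)) • (powData p hL).val x) = g ^ p • _
  rw [res_smul, (powData p hL).val_spec x a W h h' g' hg', map_pow, hgg, mul_pow, map_pow, ← mul_smul]
  rfl

end Split

end Groth.Agent.PerfPic
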